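import Mathlib.AlgebraicGeometry.Morphisms.Affine
import Mathlib.AlgebraicGeometry.Morphisms.Immersion
import Mathlib.AlgebraicGeometry.IdealSheaf.Subscheme
import Mathlib.Data.Fin.Tuple.Sort
import Groth.Prelude.Def_MoreMor

/-! Finite affine stratifications exist exactly on qcqs schemes. -/

universe u
open AlgebraicGeometry CategoryTheory TopologicalSpace

namespace Groth.Agent.AffStratLib

lemma qcqs_of_stratification {X : Scheme.{u}} {n : ℕ} (h : MoreMor.HasAffineStratification X n) :
    CompactSpace X ∧ QuasiSeparatedSpace X := by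
  obtain ⟨s, -, hs⟩ := h
  choose Z ι hi hZ hι hr using hs
  have hcov : (Set.univ : Set X) = ⋃ i, Set.range (ι i) := by
    ext x
    simp [hr]
  refine ⟨⟨hcov ▸ isCompact_iUnion fun i => isCompact_range (ι i).continuous⟩, ?_⟩
  rw [quasiSeparatedSpace_iff_forall_affineOpens]
  intro U V
  have : ((U : Set X) ∩ V) = ⋃ i, (ι i) '' (((ι i) ⁻¹ᵁ U.1 : (Z i).Opens) ∩ ((ι i) ⁻¹ᵁ V.1 : (Z i).Opens) : Set (Z i)) := by
    ext x
    constructor
    · intro hx
      obtain ⟨i, z, rfl⟩ : ∃ i z, (ι i) z = x := by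
        have := hcov.subset (Set.mem_univ x)
        simpa using this
      exact Set.mem_iUnion.mpr ⟨i, z, hx, rfl⟩
    · intro hx
      obtain ⟨i, z, hz, rfl⟩ := Set.mem_iUnion.mp hx
      exact hz
  rw [this]
  refine isCompact_iUnion fun i => IsCompact.image ?_ (ι i).continuous
  have := hι i
  exact (quasiSeparatedSpace_iff_forall_affineOpens.mp inferInstance)
    ⟨_, U.2.preimage (ι i)⟩ ⟨_, V.2.preimage (ι i)⟩

/-- A finite list of affine opens covering `X`, such that each first-index stratum is either inside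
or disjoint from every member of some affine cover, gives an affine stratification. -/
lemma stratification_of_cover {X : Scheme.{u}} {N : ℕ} (V : Fin (N + 1) → X.Opens)
    (hV : ∀ i, IsAffineOpen (V i)) (hcov : ∀ x : X, ∃ i, x ∈ V i) {J : Type*} (U : J → X.Opens)
    (hU : ∀ j, IsAffineOpen (U j)) (hUcov : ∀ x : X, ∃ j, x ∈ U j)
    (h : ∀ i j, (∀ x ∈ V i, (∀ l < i, x ∉ V l) → x ∈ U j) ∨
      (∀ x ∈ V i, (∀ l < i, x ∉ V l) → x ∉ U j)) :
    MoreMor.HasAffineStratification X N := by
  classical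
  let f : X → Fin (N + 1) := fun x => Fin.find (fun i => x ∈ V i) (hcov x)
  have hf : ∀ x i, f x = i ↔ x ∈ V i ∧ ∀ l < i, x ∉ V l := fun x i => Fin.find_eq_iff _
  refine ⟨fun x => (f x).rev, fun i => ?_, fun i => ?_⟩
  · rw [← isOpen_compl_iff]
    have : {x : X | (f x).rev ≤ i}ᶜ = ⋃ l : {l : Fin (N + 1) // l < i.rev}, (V l.1 : Set X) := by
      ext x
      have e : ∀ a b : Fin (N + 1), a < b.rev ↔ b < a.rev := fun a b => by
        simp only [Fin.lt_def, Fin.val_rev]; omega
      simp only [Set.mem_compl_iff, Set.mem_ofPred_eq, not_le, Set.mem_iUnion,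
        SetLike.mem_coe, Subtype.exists, exists_prop, e i (f x)]
      constructor
      · intro hlt
        exact ⟨f x, hlt, ((hf x (f x)).mp rfl).1⟩
      · rintro ⟨l, hl, hx⟩
        exact lt_of_le_of_lt (not_lt.mp fun hl' => ((hf x (f x)).mp rfl).2 l hl' hx) hl
    rw [this]
    exact isOpen_iUnion fun l => (V l.1).isOpen
  · let k := i.rev
    have hA : IsAffine (V k) := hV k
    let T : Closeds (V k) := ⟨{x | ∀ l < k, x.1 ∉ V l}, by
      have : {x : (V k) | ∀ l < k, x.1 ∉ V l} = ⋂ l, ⋂ (_ : l < k), (Subtype.val ⁻¹' (V l : Set X))ᶜ := by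
        ext; simp
      refine this.symm ▸ ?_
      exact isClosed_iInter fun l => isClosed_iInter fun _ =>
        (((V l).isOpen.preimage continuous_subtype_val).isClosed_compl)⟩
    let I : (V k).toScheme.IdealSheafData := Scheme.IdealSheafData.vanishingIdeal T
    have hI : Set.range I.subschemeι = (T : Set (V k)) := by
      rw [Scheme.IdealSheafData.range_subschemeι]; rfl
    have hT : ∀ z, (I.subschemeι ≫ (V k).ι) z ∈ V k ∧ ∀ l < k, (I.subschemeι ≫ (V k).ι) z ∉ V l :=
      fun z => ⟨(I.subschemeι z).2, hI.subset ⟨z, rfl⟩⟩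
    have : IsAffine I.subscheme := isAffine_of_isAffineHom I.subschemeι
    refine ⟨I.subscheme, I.subschemeι ≫ (V k).ι, inferInstance, inferInstance, ?_, ?_⟩
    · refine isAffineHom_of_forall_exists_isAffineOpen _ fun x => ?_
      obtain ⟨j, hj⟩ := hUcov x
      refine ⟨U j, hj, hU j, ?_⟩
      obtain h1 | h1 := h k j
      · have : (I.subschemeι ≫ (V k).ι) ⁻¹ᵁ U j = ⊤ := top_le_iff.mp fun z _ =>
          h1 _ (hT z).1 (hT z).2
        rw [this]
        exact isAffineOpen_top _
      · have : (I.subschemeι ≫ (V k).ι) ⁻¹ᵁ U j = ⊥ := le_bot_iff.mp fun z hz =>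
          (h1 _ (hT z).1 (hT z).2 hz).elim
        rw [this]
        exact isAffineOpen_bot _
    · ext x
      simp only [Set.mem_setOf_eq, Fin.rev_eq_iff, hf]
      constructor
      · rintro ⟨z, rfl⟩
        exact hT z
      · rintro ⟨hx, hx'⟩
        obtain ⟨z, hz⟩ := hI.superset (show (⟨x, hx⟩ : V k) ∈ (T : Set (V k)) from hx')
        exact ⟨z, congrArg Subtype.val hz⟩

lemma exists_stratification (X : Scheme.{u}) [CompactSpace X] [QuasiSeparatedSpace X] :
    ∃ n, MoreMor.HasAffineStratification X n := by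
  classical
  let 𝒰 := X.affineCover.finiteSubcover
  have : Fintype 𝒰.I₀ := Fintype.ofFinite _
  let U : 𝒰.I₀ → X.Opens := fun j => (𝒰.f j).opensRange
  have hU : ∀ j, IsAffineOpen (U j) := fun j => isAffineOpen_opensRange (𝒰.f j)
  have hUcov : ∀ x : X, ∃ j, x ∈ U j := fun x => ⟨𝒰.idx x, 𝒰.covers x⟩
  have hfin : ∀ T : Finset 𝒰.I₀, T.Nonempty → ∃ S : Set X.affineOpens, S.Finite ∧
      ((T.inf U : X.Opens) : Set X) = ⋃ W ∈ S, (W.1 : Set X) := by
    intro T hT
    have hc : IsCompact ((T.inf U : X.Opens) : Set X) := by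
      induction hT using Finset.Nonempty.cons_induction with
      | singleton a => simpa using (hU a).isCompact
      | cons a s ha hs ih =>
        rw [Finset.inf_cons, Opens.coe_inf]
        exact QuasiSeparatedSpace.inter_isCompact _ _ (U a).isOpen (hU a).isCompact (s.inf U).isOpen ih
    exact isCompact_and_isOpen_iff_finite_and_eq_biUnion_affineOpens.mp ⟨hc, (T.inf U).isOpen⟩
  choose S hS hSU using hfin
  have : ∀ T hT, Fintype (S T hT) := fun T hT => (hS T hT).fintype
  let ι := Option ((T : {T : Finset 𝒰.I₀ // T.Nonempty}) × S T.1 T.2)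
  let W : ι → X.Opens := fun o => o.elim ⊥ fun a => a.2.1.1
  let key : ι → ℕ := fun o => o.elim 0 fun a => Fintype.card 𝒰.I₀ - a.1.1.card
  obtain ⟨N, hN⟩ : ∃ N, Fintype.card ι = N + 1 := ⟨Fintype.card ι - 1, by
    have : 0 < Fintype.card ι := Fintype.card_pos_iff.mpr ⟨none⟩
    omega⟩
  let e : Fin (N + 1) ≃ ι := (Fintype.equivFinOfCardEq hN).symm
  let σ : Equiv.Perm (Fin (N + 1)) := Tuple.sort (key ∘ e)
  have hmono : Monotone (key ∘ e ∘ σ) := Tuple.monotone_sort (key ∘ e)
  have hin : ∀ x : X, ∀ T : Finset 𝒰.I₀, ∀ hT : T.Nonempty, (∀ j ∈ T, x ∈ U j) →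
      ∃ a : S T hT, x ∈ a.1.1 := by
    intro x T hT hx
    have : x ∈ ((T.inf U : X.Opens) : Set X) := by
      rw [Opens.coe_finset_inf]
      simpa using hx
    rw [hSU T hT] at this
    simpa using this
  refine ⟨N, stratification_of_cover (fun i => W (e (σ i))) (fun i => ?_) ?_ U hU hUcov ?_⟩
  · rcases e (σ i) with - | a
    · exact isAffineOpen_bot _
    · exact a.2.1.2
  · intro x
    obtain ⟨j, hj⟩ := hUcov x
    obtain ⟨a, ha⟩ := hin x {j} (Finset.singleton_nonempty j) (by simpa using hj)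
    refine ⟨σ.symm (e.symm (some ⟨⟨{j}, Finset.singleton_nonempty j⟩, a⟩)), ?_⟩
    simpa [W] using ha
  · intro i j
    rcases hi : e (σ i) with - | ⟨⟨T, hT⟩, a⟩
    · left
      intro x hx
      simp [hi, W] at hx
    have hTx : ∀ x ∈ W (some ⟨⟨T, hT⟩, a⟩), ∀ k ∈ T, x ∈ U k := by
      intro x hx
      have hx' : x ∈ ((T.inf U : X.Opens) : Set X) := by
        rw [hSU T hT]
        simp only [Set.mem_iUnion]
        exact ⟨a.1, a.2, by simpa [W] using hx⟩
      rw [Opens.coe_finset_inf] at hx'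
      simpa using hx'
    by_cases hj : j ∈ T
    · exact .inl fun x hx _ => hTx x hx j hj
    · refine .inr fun x hx hfirst hxj => ?_
      obtain ⟨b, hb⟩ := hin x (insert j T) (Finset.insert_nonempty j T) fun k hk => by
        rcases Finset.mem_insert.mp hk with rfl | hk
        · exact hxj
        · exact hTx x hx k hk
      let l := σ.symm (e.symm (some ⟨⟨insert j T, Finset.insert_nonempty j T⟩, b⟩))
      refine hfirst l ?_ (by simpa [l, W] using hb)
      by_contra hl
      have h1 := hmono (not_lt.mp hl)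
      simp [l, key, hi, Finset.card_insert_of_notMem hj] at h1
      have := Finset.card_le_univ (insert j T)
      rw [Finset.card_insert_of_notMem hj] at this
      omega

end Groth.Agent.AffStratLib
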