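import Groth.Agent.AffStratLib.Basic
import Mathlib.AlgebraicGeometry.Noetherian
import Mathlib.AlgebraicGeometry.Limits
import Mathlib.Topology.KrullDimension

/-! A Noetherian scheme of dimension `d` has affine stratification number at most `d`. -/

universe u
open AlgebraicGeometry CategoryTheory TopologicalSpace

namespace Groth.Agent.AffStratLib

lemma exists_affine_generic (X : Scheme.{u}) [IsNoetherian X] :
    ∃ U : X.Opens, IsAffineOpen U ∧ IsAffineHom U.ι ∧ ∀ x : X, ∃ η ∈ U, η ⤳ x := by
  classical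
  let 𝒰 := X.affineCover.finiteSubcover
  let V : 𝒰.I₀ → X.Opens := fun j => (𝒰.f j).opensRange
  have hV : ∀ j, IsAffineOpen (V j) := fun j => isAffineOpen_opensRange (𝒰.f j)
  have hVcov : ∀ x : X, ∃ j, x ∈ V j := fun x => ⟨𝒰.idx x, 𝒰.covers x⟩
  have hfin : (irreducibleComponents X).Finite := NoetherianSpace.finite_irreducibleComponents
  have key : ∀ C : irreducibleComponents X, ∃ (η : X) (W : X.Opens), IsGenericPoint η C.1 ∧
      IsAffineOpen W ∧ η ∈ W ∧ (∀ j, η ∈ V j → W ≤ V j) ∧
      ∀ C' : irreducibleComponents X, C' ≠ C → Disjoint (W : Set X) C'.1 := by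
    intro C
    obtain ⟨η, hη⟩ := QuasiSober.sober C.2.1 (isClosed_of_mem_irreducibleComponents C.1 C.2)
    have : Finite (irreducibleComponents X) := hfin
    have h₁ : IsOpen (⋂ j : {j // η ∈ V j}, (V j.1 : Set X)) :=
      isOpen_iInter_of_finite (fun (j : {j // η ∈ V j}) => (V j.1).isOpen)
    have h₂ : IsOpen (⋂ C' : {C' : irreducibleComponents X // C' ≠ C}, (C'.1.1 : Set X)ᶜ) :=
      isOpen_iInter_of_finite (fun (C' : {C' : irreducibleComponents X // C' ≠ C}) =>
        (isClosed_of_mem_irreducibleComponents (C'.1.1 : Set X) C'.1.2).isOpen_compl)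
    let O : X.Opens := ⟨_, h₁.inter h₂⟩
    have hηO : η ∈ O := by
      refine ⟨Set.mem_iInter.mpr fun j => j.2, Set.mem_iInter.mpr fun C' hC' => C'.2 ?_⟩
      have hsub : C.1 ⊆ C'.1.1 := hη ▸ closure_minimal (Set.singleton_subset_iff.mpr hC')
        (isClosed_of_mem_irreducibleComponents _ C'.1.2)
      exact Subtype.ext (le_antisymm (C.2.2 C'.1.2.1 hsub) hsub)
    obtain ⟨_, ⟨W, hW, rfl⟩, hηW, hWO⟩ :=
      X.isBasis_affineOpens.exists_subset_of_mem_open hηO O.isOpen
    refine ⟨η, W, hη, hW, hηW, fun j hj x hx => ?_, fun C' hC' => ?_⟩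
    · exact Set.mem_iInter.mp (hWO hx).1 ⟨j, hj⟩
    · exact Set.disjoint_left.mpr fun x hx => Set.mem_iInter.mp (hWO hx).2 ⟨C', hC'⟩
  choose η W hη hW hηW hWV hWC using key
  have : Finite (irreducibleComponents X) := hfin
  have hmem : ∀ x : X, ∃ C : irreducibleComponents X, x ∈ C.1 := fun x =>
    ⟨⟨_, irreducibleComponent_mem_irreducibleComponents x⟩, mem_irreducibleComponent⟩
  have hWeq : ∀ C x, x ∈ W C → ∀ D : irreducibleComponents X, x ∈ D.1 → D = C := fun C x hx D hD =>
    not_not.mp fun h => Set.disjoint_left.mp (hWC C D h) hx hD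
  have hdisj : Pairwise (fun C C' => Disjoint (W C) (W C')) := by
    intro C C' hne
    rw [disjoint_iff]
    refine le_bot_iff.mp fun x hx => ?_
    obtain ⟨D, hD⟩ := hmem x
    exact (hne ((hWeq C x hx.1 D hD).symm.trans (hWeq C' x hx.2 D hD))).elim
  refine ⟨iSup W, IsAffineOpen.iSup_of_disjoint hW hdisj, ?_, fun x => ?_⟩
  · refine isAffineHom_of_forall_exists_isAffineOpen _ fun x => ?_
    obtain ⟨j, hj⟩ := hVcov x
    refine ⟨V j, hj, hV j, ?_⟩
    rw [← Scheme.Hom.isAffineOpen_iff_of_isOpenImmersion (iSup W).ι,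
      Scheme.Hom.image_preimage_eq_opensRange_inf, Scheme.Opens.opensRange_ι]
    let T := {C : irreducibleComponents X // η C ∈ V j}
    have : iSup W ⊓ V j = ⨆ C : T, W C.1 := by
      refine le_antisymm ?_ (iSup_le fun C => le_inf (le_iSup W C.1) (hWV _ j C.2))
      intro x hx
      obtain ⟨C, hC⟩ := Opens.mem_iSup.mp hx.1
      obtain ⟨D, hD⟩ := hmem x
      obtain rfl := hWeq C x hC D hD
      exact Opens.mem_iSup.mpr ⟨⟨D, ((hη D).specializes hD).mem_open (V j).isOpen hx.2⟩, hC⟩
    rw [this]
    exact IsAffineOpen.iSup_of_disjoint (fun C => hW _) fun C C' h =>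
      hdisj (Subtype.coe_injective.ne h)
  · obtain ⟨C, hC⟩ := hmem x
    exact ⟨η C, Opens.mem_iSup.mpr ⟨C, hηW C⟩, (hη C).specializes hC⟩

lemma exists_subscheme_compl (X : Scheme.{u}) [IsNoetherian X] (U : X.Opens)
    (hU : ∀ x : X, ∃ η ∈ U, η ⤳ x) (d : ℕ) (hd : topologicalKrullDim X ≤ (d : WithBot ℕ∞)) :
    ∃ (Y : Scheme.{u}) (i : Y ⟶ X), IsClosedImmersion i ∧ IsNoetherian Y ∧
      Set.range i = (U : Set X)ᶜ ∧
      ∀ l : LTSeries (IrreducibleCloseds Y), l.length + 1 ≤ d := by
  let T : Closeds X := ⟨(U : Set X)ᶜ, U.isOpen.isClosed_compl⟩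
  let I : X.IdealSheafData := Scheme.IdealSheafData.vanishingIdeal T
  have hr : Set.range I.subschemeι = (U : Set X)ᶜ := by
    rw [Scheme.IdealSheafData.range_subschemeι]; rfl
  have : IsLocallyNoetherian I.subscheme := LocallyOfFiniteType.isLocallyNoetherian I.subschemeι
  have : CompactSpace I.subscheme := QuasiCompact.compactSpace_of_compactSpace I.subschemeι
  refine ⟨_, I.subschemeι, inferInstance, ⟨⟩, hr, fun l => ?_⟩
  have hi : Topology.IsClosedEmbedding I.subschemeι :=
    I.subschemeι.isClosedEmbedding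
  let p := l.map _ (IrreducibleCloseds.map_strictMono_of_isInducing hi.isInducing)
  obtain ⟨a, ha⟩ := QuasiSober.sober p.last.isIrreducible p.last.isClosed
  obtain ⟨η, hηU, hη⟩ := hU a
  have haU : a ∉ U := by
    have h1 : (p.last : Set X) ⊆ (U : Set X)ᶜ := by
      simp only [p, LTSeries.last_map, IrreducibleCloseds.coe_map]
      exact closure_minimal ((Set.image_subset_range _ _).trans hr.le) T.isClosed
    exact h1 ha.mem
  let C : IrreducibleCloseds X :=
    ⟨closure {η}, isIrreducible_singleton.closure, isClosed_closure⟩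
  have hlt : p.last < C := by
    refine lt_of_le_of_ne ?_ fun h => ?_
    · show (p.last : Set X) ⊆ closure {η}
      rw [← ha.def]
      exact closure_minimal (Set.singleton_subset_iff.mpr hη.mem_closure) isClosed_closure
    · have : η ∈ (p.last : Set X) := by rw [h]; exact subset_closure rfl
      exact haU (((ha.specializes this).mem_open U.isOpen) hηU |> fun h' => h')
  have h2 : ((RelSeries.snoc p C hlt).length : WithBot ℕ∞) ≤ (d : WithBot ℕ∞) :=
    (Order.LTSeries.length_le_krullDim (RelSeries.snoc p C hlt)).trans hd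
  simp [p] at h2
  exact_mod_cast h2

lemma stratification_noetherian (d : ℕ) : ∀ (X : Scheme.{u}) [IsNoetherian X],
    topologicalKrullDim X ≤ (d : WithBot ℕ∞) → MoreMor.HasAffineStratification X d := by
  induction d with
  | zero =>
    intro X _ hd
    obtain ⟨U, hU, hUι, hgen⟩ := exists_affine_generic X
    obtain ⟨Y, i, -, -, hr, hY⟩ := exists_subscheme_compl X U hgen 0 hd
    have hU' : ∀ x, x ∈ U := fun x => not_not.mp fun hx => by
      obtain ⟨y, -⟩ := hr.superset hx
      have := hY (RelSeries.singleton _ ⟨closure {y}, isIrreducible_singleton.closure, isClosed_closure⟩)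
      simp at this
    refine ⟨fun _ => 0, fun i => ?_, fun i => ⟨U, U.ι, inferInstance, hU, hUι, ?_⟩⟩
    · simp [Fin.fin_one_eq_zero i]
    · ext x; simpa [Fin.fin_one_eq_zero i] using hU' x
  | succ d ih =>
    intro X _ hd
    classical
    obtain ⟨U, hU, hUι, hgen⟩ := exists_affine_generic X
    obtain ⟨Y, i, hi, hN, hr, hY⟩ := exists_subscheme_compl X U hgen (d + 1) hd
    obtain ⟨s, hs₁, hs₂⟩ := ih Y (iSup_le fun l => by exact_mod_cast Nat.le_of_succ_le_succ (hY l))
    have hmem : ∀ x, x ∉ U → ∃ y, i y = x := fun x hx => hr.superset hx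
    let t : X → Fin (d + 1 + 1) := fun x =>
      if hx : x ∈ U then Fin.last _ else (s (hmem x hx).choose).castSucc
    have ht : ∀ y, t (i y) = (s y).castSucc := by
      intro y
      have hx : i y ∉ U := hr.subset ⟨y, rfl⟩
      simp only [t, dif_neg hx]
      rw [i.isClosedEmbedding.injective (hmem _ hx).choose_spec]
    have ht' : ∀ x j, t x = Fin.castSucc j ↔ ∃ y, i y = x ∧ s y = j := by
      intro x j
      constructor
      · intro h
        by_cases hx : x ∈ U
        · simp [t, hx, (Fin.castSucc_ne_last j).symm] at h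
        · obtain ⟨y, rfl⟩ := hmem x hx
          exact ⟨y, rfl, Fin.castSucc_injective _ (by rw [← ht y, h])⟩
      · rintro ⟨y, rfl, rfl⟩
        exact ht y
    refine ⟨t, fun k => ?_, fun k => ?_⟩
    · induction k using Fin.lastCases with
      | last => simpa [Fin.le_last] using isClosed_univ
      | cast k =>
        have : {x | t x ≤ k.castSucc} = i '' {y | s y ≤ k} := by
          ext x
          constructor
          · intro h
            have h' : t x < Fin.last _ := lt_of_le_of_lt h k.castSucc_lt_last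
            obtain ⟨j, hj⟩ := Fin.exists_castSucc_eq.mpr h'.ne
            obtain ⟨y, rfl, rfl⟩ := (ht' x j).mp hj.symm
            exact ⟨y, by simpa [ht] using h, rfl⟩
          · rintro ⟨y, hy, rfl⟩
            simpa [ht] using hy
        rw [this]
        exact i.isClosedEmbedding.isClosedMap _ (hs₁ k)
    · induction k using Fin.lastCases with
      | last =>
        refine ⟨U, U.ι, inferInstance, hU, hUι, ?_⟩
        ext x
        by_cases hx : x ∈ U
        · simp [t, hx]
        · simp [t, hx, Fin.castSucc_ne_last]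
      | cast k =>
        obtain ⟨Z, g, hg, hZ, hga, hgr⟩ := hs₂ k
        refine ⟨Z, g ≫ i, inferInstance, hZ, inferInstance, ?_⟩
        ext x
        simp only [Set.mem_ofPred_eq, ht']
        constructor
        · rintro ⟨z, rfl⟩
          exact ⟨g z, rfl, hgr.subset ⟨z, rfl⟩⟩
        · rintro ⟨y, rfl, hy⟩
          obtain ⟨z, rfl⟩ := hgr.superset hy
          exact ⟨z, rfl⟩

end Groth.Agent.AffStratLib
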