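import Groth.Agent.AffStratLib.Basic
import Groth.Agent.CohColim.FTUnion
import Groth.Agent.ClSubLib.Annihilator
import Groth.Agent.ProperFin.PushHH
import Groth.Agent.FinSurjLib.Vanish
import Groth.Agent.Thicken.Affine
import Groth.Agent.DCohLib.QCohAbelian

/-!
# Vanishing of cohomology above the length of an affine stratification
-/

set_option autoImplicit false
set_option backward.isDefEq.respectTransparency false
set_option linter.style.haveILetI false

universe u

open CategoryTheory CategoryTheory.Limits AlgebraicGeometry TopologicalSpace Opposite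
open Groth.Agent.PullbackMod Groth.Agent.DevLib

noncomputable section

namespace Groth.Agent.AffStratLib

variable {X : Scheme.{u}}

/-- Vanishing for all schemes with a stratification of length `n`. -/
def VanishAbove (n : ℕ) : Prop :=
  ∀ (X : Scheme.{u}), MoreMor.HasAffineStratification X n → ∀ (F : X.Modules), Coh.IsQCoh F →
    ∀ p, n < p → Subsingleton (Coh.HH X F p)

/-- A closed subscheme inside the low strata is stratified by the low strata. -/
theorem stratification_of_closed {n m : ℕ} (s : X → Fin (n + 1))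
    (hcl : ∀ i : Fin (n + 1), IsClosed {x : X | s x ≤ i})
    (hst : ∀ i : Fin (n + 1), ∃ (Z : Scheme.{u}) (ι : Z ⟶ X),
      IsImmersion ι ∧ IsAffine Z ∧ IsAffineHom ι ∧ Set.range ι = {x : X | s x = i})
    {T : Scheme.{u}} (j : T ⟶ X) [IsClosedImmersion j] (hm : m ≤ n) (hj : ∀ t, (s (j t)).1 ≤ m) :
    MoreMor.HasAffineStratification T m := by
  let s' : T → Fin (m + 1) := fun t => ⟨(s (j t)).1, by have := hj t; omega⟩
  refine ⟨s', fun i => ?_, fun i => ?_⟩
  · have : {t : T | s' t ≤ i} = j ⁻¹' {x : X | s x ≤ ⟨i.1, by omega⟩} := rfl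
    rw [this]
    exact (hcl _).preimage j.continuous
  · obtain ⟨Z, ι, hι, hZ, hιa, hr⟩ := hst ⟨i.1, by omega⟩
    haveI := hι
    haveI := hZ
    haveI := hιa
    haveI : IsAffine (pullback ι j) := isAffine_of_isAffineHom (pullback.fst ι j)
    haveI : IsAffineHom (pullback.snd ι j) := MorphismProperty.pullback_snd ι j hιa
    refine ⟨pullback ι j, pullback.snd ι j, inferInstance, inferInstance, inferInstance, ?_⟩
    rw [Scheme.Pullback.range_snd, hr]
    ext t
    simp only [Set.mem_preimage, Set.mem_setOf_eq, s', Fin.ext_iff]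

/-- Modules supported on low strata have no cohomology above the length. -/
theorem subsingleton_of_support {n m : ℕ} (hP : VanishAbove.{u} m) (s : X → Fin (n + 1))
    (hcl : ∀ i : Fin (n + 1), IsClosed {x : X | s x ≤ i})
    (hst : ∀ i : Fin (n + 1), ∃ (Z : Scheme.{u}) (ι : Z ⟶ X),
      IsImmersion ι ∧ IsAffine Z ∧ IsAffineHom ι ∧ Set.range ι = {x : X | s x = i}) (hm : m ≤ n)
    (G : X.Modules) [Coh.IsQCoh G] (hG : ∀ x ∈ CohB1.support G, (s x).1 ≤ m) (p : ℕ) (hp : m < p) :
    Subsingleton (Coh.HH X G p) := by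
  obtain ⟨hc, hq⟩ := qcqs_of_stratification ⟨s, hcl, hst⟩
  refine CohColim.subsingleton_HH_of_ft G p fun H i hi hHq hHf => ?_
  haveI := hHq
  haveI := hi
  let J := ClSubLib.annIdeal H hHf
  obtain ⟨e⟩ := ClSubLib.exists_iso_push_of_killed J.subschemeι H (ClSubLib.killed_annIdeal H hHf)
  have hT := stratification_of_closed s hcl hst J.subschemeι hm fun t =>
    hG _ (DevLib.support_subset_of_mono i ((ClSubLib.range_annIdeal H hHf).subset ⟨t, rfl⟩))
  let H' := (Scheme.Modules.pullback J.subschemeι).obj H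
  haveI : Coh.IsQCoh H' := PullbackMod.isQCoh_pullback J.subschemeι H
  obtain ⟨e', -⟩ := ProperFin.exists_pushEquiv J.subschemeι (M := H')
    (fun _ hV m => CohBase.affine_vanishing _ (hV.preimage J.subschemeι) m) p
  haveI := hP _ hT H' inferInstance p hp
  exact CurveLib.subsingleton_HH_iso e p e'.symm.toEquiv.subsingleton

/-- An open whose points form the image of an affine closed immersion is affine. -/
theorem isAffineOpen_of_surjective (O : X.Opens) {Z : Scheme.{u}} [IsAffine Z] (t : Z ⟶ O)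
    [IsClosedImmersion t] (ht : Function.Surjective t) : IsAffineOpen O :=
  Thicken.isAffine t ht

/-- A module with no support is zero in cohomology. -/
theorem subsingleton_of_support_empty (G : X.Modules) (hG : ∀ x, x ∉ CohB1.support G) (p : ℕ) :
    Subsingleton (Coh.HH X G p) := by
  have hz : IsZero ((QCohLib.toAbF X).obj G) :=
    (QCohLib.toAbF X).map_isZero (isZero_of_support_empty (Set.eq_empty_of_forall_notMem hG))
  refine subsingleton_of_forall_eq 0 fun x => ?_
  rw [← Sheaf.H.map_id_apply (x := x), hz.eq_of_src (𝟙 _) 0]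
  show x.comp (Abelian.Ext.mk₀ 0) (add_zero p) = 0
  rw [Abelian.Ext.mk₀_zero, Abelian.Ext.comp_zero]

/-- Cohomology of a submodule. -/
theorem subsingleton_left {T : ShortComplex X.Modules} (hT : T.ShortExact) (n : ℕ)
    (h3 : Subsingleton (Coh.HH X T.X₃ n)) (h2 : Subsingleton (Coh.HH X T.X₂ (n + 1))) :
    Subsingleton (Coh.HH X T.X₁ (n + 1)) := by
  refine CohBase.subsingleton_HH _ _ (subsingleton_of_forall_eq 0 fun x => ?_)
  let T' := T.map (QCohLib.toAbF X)
  haveI : Subsingleton (CohBase.HU (⊤ : X.Opens) T'.X₃ n) := SerreAff.subsingleton_HU_top h3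
  haveI : Subsingleton (CohBase.HU (⊤ : X.Opens) T'.X₂ (n + 1)) := SerreAff.subsingleton_HU_top h2
  obtain ⟨y, hy⟩ := Abelian.Ext.covariant_sequence_exact₁ (CohBase.freeAb (⊤ : X.Opens))
    (QCohLib.toAb_shortExact hT) x (Subsingleton.elim _ _) rfl
  rw [← hy, Subsingleton.elim y 0, Abelian.Ext.zero_comp]

/-- The vanishing theorem. -/
theorem vanishAbove : ∀ n, VanishAbove.{u} n := by
  intro n
  induction n using Nat.strong_induction_on with
  | _ n ih =>
  intro X hX F hF p hp
  haveI := hF
  obtain ⟨hc, hq⟩ := qcqs_of_stratification hX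
  obtain ⟨s, hcl, hst⟩ := hX
  let top : Fin (n + 1) := Fin.last n
  obtain ⟨Z, ι, hι, hZ, hιa, hr⟩ := hst top
  haveI := hι; haveI := hZ; haveI := hιa
  have hopen : IsOpen {x : X | s x = top} := by
    rcases Nat.eq_zero_or_pos n with rfl | hn
    · have : {x : X | s x = top} = Set.univ :=
        Set.eq_univ_of_forall fun x => Subsingleton.elim (α := Fin 1) _ _
      rw [this]; exact isOpen_univ
    · have : {x : X | s x = top} = {x : X | s x ≤ ⟨n - 1, by omega⟩}ᶜ := by
        ext x
        have := (s x).2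
        simp only [Set.mem_setOf_eq, Set.mem_compl_iff, Fin.le_def, Fin.ext_iff, top, Fin.val_last]
        omega
      rw [this]; exact (hcl _).isOpen_compl
  let U : X.Opens := ⟨_, hopen⟩
  -- thickenings of affine schemes
  have hthick : ∀ O : X.Opens, O ≤ U → IsAffineOpen (ι ⁻¹ᵁ O) → IsAffineOpen O := by
    intro O hO hW
    let t : ((ι ⁻¹ᵁ O : Z.Opens) : Scheme.{u}) ⟶ O := ι ∣_ O
    haveI : IsAffine ((ι ⁻¹ᵁ O : Z.Opens) : Scheme.{u}) := hW
    have ht : Function.Surjective t := by
      rintro ⟨x, hx⟩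
      obtain ⟨z, hz⟩ : x ∈ Set.range ι := by rw [hr]; exact hO hx
      exact ⟨⟨z, show ι z ∈ O by rw [hz]; exact hx⟩, Subtype.ext (by simp [t, hz])⟩
    haveI : IsImmersion t := IsZariskiLocalAtTarget.restrict hι O
    haveI : IsClosedImmersion t :=
      IsClosedImmersion.of_isPreimmersion t (by rw [ht.range_eq]; exact isClosed_univ)
    exact isAffineOpen_of_surjective O t ht
  have hU : IsAffineOpen U := hthick U le_rfl (by
    rw [show ι ⁻¹ᵁ U = ⊤ from top_le_iff.mp fun z _ => (hr.subset ⟨z, rfl⟩ : ι z ∈ U)]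
    exact isAffineOpen_top Z)
  haveI : IsAffine (U : Scheme.{u}) := hU
  haveI : IsAffineHom U.ι := by
    refine ⟨fun V hV => ?_⟩
    have h1 : IsAffineOpen (V ⊓ U) := hthick (V ⊓ U) inf_le_right (by
      rw [show ι ⁻¹ᵁ (V ⊓ U) = ι ⁻¹ᵁ V from le_antisymm (fun z hz => hz.1)
        (fun z hz => ⟨hz, (hr.subset ⟨z, rfl⟩ : ι z ∈ U)⟩)]
      exact hV.preimage ι)
    rw [← U.ι.isAffineOpen_iff_of_isOpenImmersion]
    rw [show U.ι ''ᵁ (U.ι ⁻¹ᵁ V) = V ⊓ U by rw [Scheme.Hom.image_preimage_eq_opensRange_inf, Scheme.Opens.opensRange_ι, inf_comm]]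
    exact h1
  let R := Scheme.Modules.restrictFunctor U.ι
  let adj := Scheme.Modules.restrictAdjunction U.ι
  let F' : (U : Scheme.{u}).Modules := R.obj F
  haveI : Coh.IsQCoh F' := by
    haveI := PullbackMod.isQCoh_pullback U.ι F
    exact DCohLib.isQCoh_of_iso' ((Scheme.Modules.restrictFunctorIsoPullback U.ι).symm.app F) this
  let M : X.Modules := (Scheme.Modules.pushforward U.ι).obj F'
  haveI : Coh.IsQCoh M := QCohLib.isQCoh_pushforward F' U.ι
  let η : F ⟶ M := adj.unit.app F
  haveI : IsIso (R.map η) := by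
    haveI : IsIso (adj.counit.app (R.obj F)) := inferInstance
    have := adj.left_triangle_components F
    exact IsIso.of_isIso_fac_right this
  have hstalk : ∀ y ∈ U, Function.Bijective (stalkLin η y) := by
    intro y hy
    let e₁ := ((Scheme.Modules.restrictStalkNatIso U.ι ⟨y, hy⟩).app F).addCommGroupIsoToAddEquiv
    let e₂ := ((Scheme.Modules.restrictStalkNatIso U.ι ⟨y, hy⟩).app M).addCommGroupIsoToAddEquiv
    have hn : ∀ z, e₂ (stalkLin (R.map η) ⟨y, hy⟩ z) = stalkLin η y (e₁ z) := fun z =>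
      congr($((Scheme.Modules.restrictStalkNatIso U.ι ⟨y, hy⟩).hom.naturality η) z)
    have hb := (isIso_iff_stalk (R.map η)).1 inferInstance ⟨y, hy⟩
    have := (e₂.bijective.comp hb).comp e₁.symm.bijective
    rwa [show (e₂ ∘ stalkLin (R.map η) ⟨y, hy⟩) ∘ e₁.symm = stalkLin η y from
      funext fun z => by simp only [Function.comp_apply, hn, AddEquiv.apply_symm_apply]] at this
  let C := cokernel (kernel.ι η)
  let w : C ⟶ M := cokernel.desc (kernel.ι η) η (kernel.condition η)
  haveI : Mono w := inferInstanceAs (Mono (Abelian.factorThruCoimage η))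
  obtain ⟨hKq, -⟩ := QCohLib.isQCoh_image η hF inferInstance
  haveI := hKq
  haveI hCq : Coh.IsQCoh C := (QCohLib.isQCoh_image (kernel.ι η) hKq hF).2
  haveI hQq : Coh.IsQCoh (cokernel w) := (QCohLib.isQCoh_image w hCq inferInstance).2
  have hK : ∀ x ∈ CohB1.support (kernel η), x ∉ U := fun x hx hxU => hx <| by
    refine subsingleton_of_forall_eq 0 fun z => ?_
    apply (mono_iff_stalk (kernel.ι η)).1 inferInstance x
    apply (hstalk x hxU).1
    rw [map_zero, map_zero, ← LinearMap.comp_apply, ← stalkLin_comp, kernel.condition, stalkLin_zero]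
    rfl
  have hQ : ∀ x ∈ CohB1.support (cokernel w), x ∉ U := fun x hx hxU => hx <|
    subsingleton_coker w fun z => by
      obtain ⟨v, rfl⟩ := (hstalk x hxU).2 z
      refine ⟨stalkLin (cokernel.π (kernel.ι η)) x v, ?_⟩
      rw [← LinearMap.comp_apply, ← stalkLin_comp, cokernel.π_desc]
  have hlow : ∀ (G : X.Modules), Coh.IsQCoh G → (∀ x ∈ CohB1.support G, x ∉ U) → ∀ q, n ≤ q →
      Subsingleton (Coh.HH X G q) := by
    intro G hG hsupp q hq
    haveI := hG
    rcases Nat.eq_zero_or_pos n with rfl | hn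
    · exact subsingleton_of_support_empty G (fun x hx => hsupp x hx
        (Subsingleton.elim (α := Fin 1) _ _)) q
    · refine subsingleton_of_support (ih (n - 1) (by omega)) s hcl hst (by omega) G (fun x hx => ?_) q (by omega)
      have h1 : s x ≠ top := hsupp x hx
      have h2 := (s x).2
      simp only [ne_eq, Fin.ext_iff, top, Fin.val_last] at h1
      omega
  obtain ⟨q, rfl⟩ : ∃ q, p = q + 1 := ⟨p - 1, by omega⟩
  have hM : Subsingleton (Coh.HH X M (q + 1)) := by
    obtain ⟨e', -⟩ := ProperFin.exists_pushEquiv U.ι (M := F')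
      (fun _ hV m => CohBase.affine_vanishing _ (hV.preimage U.ι) m) (q + 1)
    haveI : Subsingleton (Coh.HH (U : Scheme.{u}) F' (q + 1)) :=
      CohBase.subsingleton_HH _ _ (CohBase.affine_vanishing F' (isAffineOpen_top _) q)
    exact e'.symm.toEquiv.subsingleton
  have hC : Subsingleton (Coh.HH X C (q + 1)) :=
    subsingleton_left (cokerSeq_shortExact w) q (hlow _ hQq hQ q (by omega)) hM
  exact SerreAff.subsingleton_mid (cokerSeq_shortExact (kernel.ι η)) (q + 1)
    (hlow _ hKq hK (q + 1) (by omega)) hC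

end Groth.Agent.AffStratLib
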